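import Mathlib
import Cfsg.Prelude.Def_Spor_Fi24
import Cfsg.Prelude.Def_KGroupFacts

/-!
# A stem extension of Fi24' with kernel of order three, from a threefold cover of a permutation
representation of the presented group Fi24 (abstract part)

`X^ = Fin n × ZMod 3`; every generator of the presented group `Fi24` acts on `X^` by a permutation
that inverts the fibre rotation `tau`; the Coxeter relators and the first further relator act
trivially, and the last relator `z` acts as `tau`.  Then the subgroup of `Perm X^ × Fi24` generated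
by the pairs (permutation, generator) maps onto `Fi24` with kernel `<(tau, 1)>`, and the preimage
of the commutator subgroup is a stem extension of `Fi24'` with kernel of order three.
-/

set_option autoImplicit false
set_option linter.constructorNameAsVariable false

namespace Cfsg.Agent.Lib.Helper8.Fi24L

open Cfsg Cfsg.Spor

/-- the relators of the presented group `Fi24` -/
abbrev Rels : Set (FreeGroup Fi24.Gen) := coxRelators Fi24.edges ∪ {r | r ∈ Fi24.extra}

/-- the points of the threefold cover -/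
abbrev XH (n : ℕ) : Type := Fin n × ZMod 3

/-- the fibre rotation -/
def tau (n : ℕ) : Equiv.Perm (XH n) :=
  (Equiv.refl (Fin n)).prodCongr (Equiv.addRight (1 : ZMod 3))

theorem tau_apply (n : ℕ) (x : Fin n) (i : ZMod 3) : tau n (x, i) = (x, i + 1) := rfl

theorem tau_pow_apply (n : ℕ) (k : ℕ) (x : Fin n) (i : ZMod 3) :
    (tau n ^ k) (x, i) = (x, i + k) := by
  induction k generalizing i with
  | zero => simp
  | succ k ih =>
    rw [pow_succ, Equiv.Perm.mul_apply, tau_apply, ih]
    push_cast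
    rw [add_assoc, add_comm (1 : ZMod 3)]

theorem tau_pow_three (n : ℕ) : tau n ^ 3 = 1 := by
  ext ⟨x, i⟩ : 1
  rw [tau_pow_apply]
  have : ((3 : ℕ) : ZMod 3) = 0 := by decide
  rw [this, add_zero]
  rfl

theorem tau_ne_one {n : ℕ} (hn : 0 < n) : tau n ≠ 1 := by
  intro h
  have h1 := congrArg (fun p : Equiv.Perm (XH n) => p (⟨0, hn⟩, 0)) h
  simp only [tau_apply, Equiv.Perm.coe_one, id_eq, Prod.mk.injEq, true_and] at h1
  revert h1
  decide

/-- the last further relator of `Fi24` -/
def zword : FreeGroup Fi24.Gen :=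
  (Fi24.d * Fi24.c * Fi24.b * Fi24.a * Fi24.k * Fi24.l * Fi24.d * Fi24.e * Fi24.f * Fi24.g *
    Fi24.j * Fi24.d * Fi24.h * Fi24.i) ^ 17

/-- the first further relator of `Fi24` -/
def eword : FreeGroup Fi24.Gen :=
  Fi24.l * (((Fi24.a * Fi24.b * Fi24.c * Fi24.d * Fi24.e * Fi24.f * Fi24.h) ^ 9)⁻¹)

theorem extra_eq : Fi24.extra = [eword, zword] := rfl

/-- the data of a threefold cover -/
structure Cov (n : ℕ) where
  ph : Fi24.Gen → Equiv.Perm (XH n)
  pos : 0 < n
  anti : ∀ g, ph g * tau n = (tau n)⁻¹ * ph g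
  cox : ∀ r ∈ coxRelators Fi24.edges, FreeGroup.lift ph r = 1
  e7 : FreeGroup.lift ph eword = 1
  zz : FreeGroup.lift ph zword = tau n

/-! ### the sign of a word -/

/-- the homomorphism of the free group that maps every generator to `-1` -/
def sgnW : FreeGroup Fi24.Gen →* ℤˣ := FreeGroup.lift fun _ => -1

theorem sgnW_of (x : Fi24.Gen) : sgnW (FreeGroup.of x) = -1 := FreeGroup.lift_apply_of

theorem sgnW_rel (r : FreeGroup Fi24.Gen) (hr : r ∈ Rels) : sgnW r = 1 := by
  rcases hr with ⟨x, _, y, _, rfl⟩ | hr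
  · rw [map_pow, map_mul, sgnW_of, sgnW_of]
    simp
  · have hr' : r ∈ Fi24.extra := hr
    rw [extra_eq] at hr'
    simp only [List.mem_cons, List.not_mem_nil, or_false] at hr'
    rcases hr' with rfl | rfl
    · simp only [eword, Fi24.l, Fi24.a, Fi24.b, Fi24.c, Fi24.d, Fi24.e, Fi24.f, Fi24.h,
        map_mul, map_inv, map_pow, sgnW_of]
      decide
    · simp only [zword, Fi24.l, Fi24.k, Fi24.a, Fi24.b, Fi24.c, Fi24.d, Fi24.e, Fi24.f, Fi24.g,
        Fi24.j, Fi24.h, Fi24.i, map_mul, map_pow, sgnW_of]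
      decide

/-- the sign on the presented group -/
def sgnP : Fi24 →* ℤˣ := PresentedGroup.toGroup (f := fun _ => (-1 : ℤˣ)) sgnW_rel

theorem sgnP_mk (w : FreeGroup Fi24.Gen) : sgnP (PresentedGroup.mk Rels w) = sgnW w := by
  induction w using FreeGroup.induction_on with
  | C1 => simp
  | of x =>
    rw [sgnW_of]
    exact PresentedGroup.toGroup.of _
  | inv_of x ih => rw [map_inv, map_inv, map_inv, ih]
  | mul x y ihx ihy => rw [map_mul, map_mul, map_mul, ihx, ihy]

theorem sgnP_surjective : Function.Surjective sgnP := by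
  intro u
  rcases Int.units_eq_one_or u with rfl | rfl
  · exact ⟨1, map_one _⟩
  · exact ⟨PresentedGroup.mk Rels (FreeGroup.of Fi24.Gen.l), by rw [sgnP_mk, sgnW_of]⟩

/-- the even elements lie in the commutator subgroup, when that has index two -/
theorem mem_commutator_of_sgn (hidx : (commutator Fi24).index = 2) (w : FreeGroup Fi24.Gen)
    (hw : sgnW w = 1) : PresentedGroup.mk Rels w ∈ commutator Fi24 := by
  have h1 : commutator Fi24 ≤ sgnP.ker := Abelianization.commutator_subset_ker sgnP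
  have h2 : sgnP.ker.index = 2 := by
    rw [Subgroup.index_ker, MonoidHom.range_eq_top.2 sgnP_surjective]
    simp
  have h3 := Subgroup.relIndex_mul_index h1
  rw [hidx, h2] at h3
  have h4 : (commutator Fi24).relIndex sgnP.ker = 1 := by omega
  have h5 : sgnP.ker ≤ commutator Fi24 := Subgroup.relIndex_eq_one.1 h4
  apply h5
  rw [MonoidHom.mem_ker, sgnP_mk, hw]

theorem sgn_of_mem_commutator (w : FreeGroup Fi24.Gen)
    (hw : PresentedGroup.mk Rels w ∈ commutator Fi24) : sgnW w = 1 := by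
  have h1 := Abelianization.commutator_subset_ker sgnP hw
  rwa [MonoidHom.mem_ker, sgnP_mk] at h1

theorem inv_swap {G : Type*} [Group G] (p t : G) (h : p * t = t⁻¹ * p) :
    p⁻¹ * t = t⁻¹ * p⁻¹ := by
  have h2 : t * p = p * t⁻¹ := by
    have := congrArg (fun z => t * z * t⁻¹) h
    simpa [mul_assoc] using this
  calc p⁻¹ * t = p⁻¹ * (t * p) * p⁻¹ := by group
    _ = p⁻¹ * (p * t⁻¹) * p⁻¹ := by rw [h2]
    _ = t⁻¹ * p⁻¹ := by group

/-! ### the group generated by the pairs -/

section main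

variable {n : ℕ} (c : Cov n)

/-- the action of the words on the cover -/
def Cov.phi : FreeGroup Fi24.Gen →* Equiv.Perm (XH n) := FreeGroup.lift c.ph

theorem Cov.phi_of (x : Fi24.Gen) : c.phi (FreeGroup.of x) = c.ph x := FreeGroup.lift_apply_of

/-- a word acts on the fibre rotation through its sign -/
theorem Cov.phi_tau (w : FreeGroup Fi24.Gen) :
    (sgnW w = 1 → c.phi w * tau n = tau n * c.phi w) ∧
    (sgnW w = -1 → c.phi w * tau n = (tau n)⁻¹ * c.phi w) := by
  induction w using FreeGroup.induction_on with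
  | C1 =>
    refine ⟨fun _ => by simp, fun h => ?_⟩
    rw [map_one] at h
    exact absurd h (by decide)
  | of x =>
    refine ⟨fun h => ?_, fun _ => ?_⟩
    · rw [sgnW_of] at h
      exact absurd h (by decide)
    · rw [c.phi_of]
      exact c.anti x
  | inv_of x ih =>
    refine ⟨fun h => ?_, fun _ => ?_⟩
    · rw [map_inv, sgnW_of] at h
      exact absurd h (by decide)
    · have h1 := ih.2 (sgnW_of x)
      rw [map_inv]
      exact inv_swap _ _ h1
  | mul x y ihx ihy =>
    rcases Int.units_eq_one_or (sgnW x) with hx | hx <;>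
      rcases Int.units_eq_one_or (sgnW y) with hy | hy
    · refine ⟨fun _ => ?_, fun h => ?_⟩
      · rw [map_mul, mul_assoc, ihy.1 hy, ← mul_assoc, ihx.1 hx, mul_assoc]
      · rw [map_mul, hx, hy] at h
        exact absurd h (by decide)
    · refine ⟨fun h => ?_, fun _ => ?_⟩
      · rw [map_mul, hx, hy] at h
        exact absurd h (by decide)
      · rw [map_mul, mul_assoc, ihy.2 hy, ← mul_assoc]
        have h1 : c.phi x * (tau n)⁻¹ = (tau n)⁻¹ * c.phi x := by
          rw [eq_inv_mul_iff_mul_eq, ← mul_assoc, ← ihx.1 hx, mul_assoc, mul_inv_cancel, mul_one]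
        rw [h1, mul_assoc]
    · refine ⟨fun h => ?_, fun _ => ?_⟩
      · rw [map_mul, hx, hy] at h
        exact absurd h (by decide)
      · rw [map_mul, mul_assoc, ihy.1 hy, ← mul_assoc, ihx.2 hx, mul_assoc]
    · refine ⟨fun _ => ?_, fun h => ?_⟩
      · rw [map_mul, mul_assoc, ihy.2 hy, ← mul_assoc]
        have h1 : c.phi x * (tau n)⁻¹ = tau n * c.phi x := by
          have h2 := ihx.2 hx
          rw [mul_inv_eq_iff_eq_mul, mul_assoc, h2, ← mul_assoc, mul_inv_cancel, one_mul]
        rw [h1, mul_assoc]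
      · rw [map_mul, hx, hy] at h
        exact absurd h (by decide)

/-- the relators act as powers of the fibre rotation -/
theorem Cov.phi_rel (r : FreeGroup Fi24.Gen) (hr : r ∈ Rels) :
    c.phi r ∈ Subgroup.zpowers (tau n) := by
  rcases hr with hr | hr
  · rw [Cov.phi, c.cox r hr]
    exact one_mem _
  · have hr' : r ∈ Fi24.extra := hr
    rw [extra_eq] at hr'
    simp only [List.mem_cons, List.not_mem_nil, or_false] at hr'
    rcases hr' with rfl | rfl
    · rw [Cov.phi, c.e7]
      exact one_mem _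
    · rw [Cov.phi, c.zz]
      exact Subgroup.mem_zpowers _

/-- the words that act as powers of the fibre rotation form a normal subgroup -/
theorem Cov.comap_normal : ((Subgroup.zpowers (tau n)).comap c.phi).Normal := by
  constructor
  intro w hw g
  rw [Subgroup.mem_comap] at hw ⊢
  obtain ⟨k, hk⟩ := Subgroup.mem_zpowers_iff.1 hw
  rw [map_mul, map_mul, map_inv, ← hk]
  rcases Int.units_eq_one_or (sgnW g) with hg | hg
  · have h1 : c.phi g * tau n ^ k * (c.phi g)⁻¹ = tau n ^ k := by
      rw [mul_inv_eq_iff_eq_mul]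
      exact (Commute.zpow_right (show Commute (c.phi g) (tau n) from (c.phi_tau g).1 hg) k).eq
    rw [h1]
    exact Subgroup.zpow_mem_zpowers _ _
  · have h0 : c.phi g * tau n * (c.phi g)⁻¹ = (tau n)⁻¹ := by
      rw [mul_inv_eq_iff_eq_mul]
      exact (c.phi_tau g).2 hg
    have h1 : c.phi g * tau n ^ k * (c.phi g)⁻¹ = ((tau n)⁻¹) ^ k := by
      have := map_zpow (MulAut.conj (c.phi g)) (tau n) k
      rw [MulAut.conj_apply, MulAut.conj_apply, h0] at this
      exact this
    rw [h1, inv_zpow]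
    exact inv_mem (Subgroup.zpow_mem_zpowers _ _)

/-- a word that is trivial in `Fi24` acts as a power of the fibre rotation -/
theorem Cov.phi_of_mk_eq_one (w : FreeGroup Fi24.Gen) (hw : PresentedGroup.mk Rels w = 1) :
    c.phi w ∈ Subgroup.zpowers (tau n) := by
  have h1 : w ∈ Subgroup.normalClosure Rels := by
    have := (QuotientGroup.eq_one_iff (N := Subgroup.normalClosure Rels) w).1 hw
    exact this
  have h2 : Subgroup.normalClosure Rels ≤ (Subgroup.zpowers (tau n)).comap c.phi := by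
    have := c.comap_normal
    apply Subgroup.normalClosure_le_normal
    intro r hr
    exact c.phi_rel r hr
  exact h2 h1

end main

/-! ### the extension -/

section group

variable {n : ℕ} (c : Cov n)

/-- the pairs -/
def Cov.Psi : FreeGroup Fi24.Gen →* Equiv.Perm (XH n) × Fi24 :=
  c.phi.prod (PresentedGroup.mk Rels)

/-- the group generated by the pairs -/
abbrev Cov.G : Type := ↥c.Psi.range

/-- the words in the group -/
def Cov.Psi' : FreeGroup Fi24.Gen →* c.G := c.Psi.rangeRestrict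

/-- the first projection -/
def Cov.pi1 : c.G →* Equiv.Perm (XH n) := (MonoidHom.fst _ _).comp c.Psi.range.subtype

/-- the second projection -/
def Cov.pi2 : c.G →* Fi24 := (MonoidHom.snd _ _).comp c.Psi.range.subtype

theorem Cov.pi1_Psi' (w : FreeGroup Fi24.Gen) : c.pi1 (c.Psi' w) = c.phi w := rfl

theorem Cov.pi2_Psi' (w : FreeGroup Fi24.Gen) :
    c.pi2 (c.Psi' w) = PresentedGroup.mk Rels w := rfl

theorem Cov.Psi'_surjective : Function.Surjective c.Psi' :=
  MonoidHom.rangeRestrict_surjective _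

theorem Cov.G_ext (g h : c.G) (h1 : c.pi1 g = c.pi1 h) (h2 : c.pi2 g = c.pi2 h) : g = h :=
  Subtype.ext (Prod.ext h1 h2)

theorem Cov.pi2_surjective : Function.Surjective c.pi2 := by
  intro y
  obtain ⟨w, rfl⟩ := PresentedGroup.mk_surjective Rels y
  exact ⟨c.Psi' w, rfl⟩

theorem zword_mem : zword ∈ Rels :=
  Or.inr (show zword ∈ Fi24.extra by rw [extra_eq]; simp)

/-- the generator of the kernel -/
def Cov.kap : c.G := c.Psi' zword

theorem Cov.pi1_kap : c.pi1 c.kap = tau n := c.zz

theorem Cov.pi2_kap : c.pi2 c.kap = 1 := PresentedGroup.one_of_mem zword_mem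

theorem Cov.kap_pow_three : c.kap ^ 3 = 1 := by
  apply c.G_ext
  · rw [map_pow, c.pi1_kap, tau_pow_three, map_one]
  · rw [map_pow, c.pi2_kap, one_pow, map_one]

theorem Cov.kap_ne_one : c.kap ≠ 1 := by
  intro h
  have h1 := congrArg c.pi1 h
  rw [c.pi1_kap, map_one] at h1
  exact tau_ne_one c.pos h1

theorem Cov.ker_pi2 (g : c.G) (hg : c.pi2 g = 1) : g ∈ Subgroup.zpowers c.kap := by
  obtain ⟨w, rfl⟩ := c.Psi'_surjective g
  have h1 := c.phi_of_mk_eq_one w hg
  obtain ⟨k, hk⟩ := Subgroup.mem_zpowers_iff.1 h1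
  refine Subgroup.mem_zpowers_iff.2 ⟨k, ?_⟩
  apply c.G_ext
  · rw [map_zpow, c.pi1_kap, hk]
    rfl
  · rw [map_zpow, c.pi2_kap, one_zpow]
    exact hg.symm

/-- the preimage of the commutator subgroup -/
def Cov.Gam : Subgroup c.G := (commutator Fi24).comap c.pi2

instance Cov.Gam_normal : c.Gam.Normal := by
  unfold Cov.Gam
  infer_instance

theorem Cov.kap_mem : c.kap ∈ c.Gam := by
  rw [Cov.Gam, Subgroup.mem_comap, c.pi2_kap]
  exact one_mem _

theorem Cov.kap_comm (g : c.G) (hg : g ∈ c.Gam) : g * c.kap = c.kap * g := by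
  obtain ⟨w, rfl⟩ := c.Psi'_surjective g
  have h1 : sgnW w = 1 := sgn_of_mem_commutator w hg
  apply c.G_ext
  · rw [map_mul, map_mul, c.pi1_kap, c.pi1_Psi']
    exact (c.phi_tau w).1 h1
  · rw [map_mul, map_mul, c.pi2_kap, mul_one, one_mul]

/-- the commutator subgroup of the preimage -/
def Cov.B : Subgroup c.G := ⁅c.Gam, c.Gam⁆

instance Cov.B_normal : c.B.Normal := by
  unfold Cov.B
  infer_instance

theorem Cov.B_le : c.B ≤ c.Gam := Subgroup.commutator_le_self _

theorem Cov.map_Gam : c.Gam.map c.pi2 = commutator Fi24 :=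
  Subgroup.map_comap_eq_self_of_surjective c.pi2_surjective _

/-- the preimage is the product of its commutator subgroup and the kernel -/
theorem Cov.exists_B (hperf : ⁅commutator Fi24, commutator Fi24⁆ = commutator Fi24)
    (g : c.G) (hg : g ∈ c.Gam) : ∃ b ∈ c.B, ∃ k : ℤ, g = b * c.kap ^ k := by
  have h1 : c.B.map c.pi2 = commutator Fi24 := by
    rw [Cov.B, Subgroup.map_commutator, c.map_Gam, hperf]
  have h2 : c.pi2 g ∈ c.B.map c.pi2 := by
    rw [h1]
    exact hg
  obtain ⟨b, hb, hbg⟩ := Subgroup.mem_map.1 h2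
  have h3 : c.pi2 (b⁻¹ * g) = 1 := by
    rw [map_mul, map_inv, hbg, inv_mul_cancel]
  obtain ⟨k, hk⟩ := Subgroup.mem_zpowers_iff.1 (c.ker_pi2 _ h3)
  exact ⟨b, hb, k, by rw [hk, mul_inv_cancel_left]⟩

end group

/-! ### the kernel lies in the commutator subgroup -/

section comm

variable {n : ℕ} (c : Cov n)

/-- the generators in the group -/
def Cov.sh (x : Fi24.Gen) : c.G := c.Psi' (FreeGroup.of x)

theorem Cov.Psi'_cox (r : FreeGroup Fi24.Gen) (hr : r ∈ coxRelators Fi24.edges) :
    c.Psi' r = 1 := by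
  apply c.G_ext
  · rw [c.pi1_Psi', map_one]
    exact c.cox r hr
  · rw [c.pi2_Psi', map_one]
    exact PresentedGroup.one_of_mem (Or.inl hr)

theorem mem_nodes (x : Fi24.Gen) : x ∈ coxNodes Fi24.edges := by
  cases x <;> decide

theorem Cov.sh_pow (x y : Fi24.Gen) : (c.sh x * c.sh y) ^ coxLabel Fi24.edges x y = 1 := by
  have h := c.Psi'_cox _ ⟨x, mem_nodes x, y, mem_nodes y, rfl⟩
  rwa [map_pow, map_mul] at h

theorem Cov.sh_sq (x : Fi24.Gen) : c.sh x * c.sh x = 1 := by
  have h := c.sh_pow x x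
  have h1 : coxLabel Fi24.edges x x = 1 := by simp [coxLabel]
  rwa [h1, pow_one] at h

theorem Cov.sh_inv (x : Fi24.Gen) : (c.sh x)⁻¹ = c.sh x :=
  inv_eq_of_mul_eq_one_left (c.sh_sq x)

theorem Cov.pair_mem_Gam (hidx : (commutator Fi24).index = 2) (x y : Fi24.Gen) :
    c.sh x * c.sh y ∈ c.Gam := by
  rw [Cov.Gam, Subgroup.mem_comap, Cov.sh, Cov.sh, ← map_mul, c.pi2_Psi']
  apply mem_commutator_of_sgn hidx
  rw [map_mul, sgnW_of, sgnW_of]
  decide

/-- an involution of the preimage lies in its commutator subgroup -/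
theorem Cov.invol_mem_B (hperf : ⁅commutator Fi24, commutator Fi24⁆ = commutator Fi24)
    (g : c.G) (hg : g ∈ c.Gam) (h2 : g ^ 2 = 1) : g ∈ c.B := by
  obtain ⟨b, hb, k, rfl⟩ := c.exists_B hperf g hg
  have hc : Commute b (c.kap ^ k) :=
    Commute.zpow_right (show Commute b c.kap from c.kap_comm b (c.B_le hb)) k
  rw [hc.mul_pow] at h2
  have h3 : (c.kap ^ k) ^ 2 ∈ c.B := by
    have : (c.kap ^ k) ^ 2 = (b ^ 2)⁻¹ := eq_inv_of_mul_eq_one_right h2
    rw [this]
    exact inv_mem (pow_mem hb 2)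
  have h4 : (c.kap ^ k) ^ 3 = 1 := by
    rw [← zpow_natCast, ← zpow_mul, mul_comm, zpow_mul, zpow_natCast, c.kap_pow_three, one_zpow]
  have h5 : c.kap ^ k = ((c.kap ^ k) ^ 2)⁻¹ := by
    rw [eq_inv_iff_mul_eq_one, ← pow_succ', h4]
  refine mul_mem hb ?_
  rw [h5]
  exact inv_mem h3

/-- a node joined to neither of two joined nodes -/
def wit (x y : Fi24.Gen) : Fi24.Gen :=
  ([Fi24.Gen.b, Fi24.Gen.c, Fi24.Gen.d, Fi24.Gen.e, Fi24.Gen.f].find? fun u =>
    coxLabel Fi24.edges x u = 2 ∧ coxLabel Fi24.edges u y = 2).getD Fi24.Gen.b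

theorem wit_spec (x y : Fi24.Gen) : x = y ∨ coxLabel Fi24.edges x y = 2 ∨
    (coxLabel Fi24.edges x (wit x y) = 2 ∧ coxLabel Fi24.edges (wit x y) y = 2) := by
  cases x <;> cases y <;> decide

theorem Cov.pair_mem_B (hidx : (commutator Fi24).index = 2)
    (hperf : ⁅commutator Fi24, commutator Fi24⁆ = commutator Fi24) (x y : Fi24.Gen) :
    c.sh x * c.sh y ∈ c.B := by
  have key : ∀ x y : Fi24.Gen, coxLabel Fi24.edges x y = 2 → c.sh x * c.sh y ∈ c.B := by
    intro x y hl
    apply c.invol_mem_B hperf _ (c.pair_mem_Gam hidx x y)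
    have := c.sh_pow x y
    rwa [hl] at this
  rcases wit_spec x y with rfl | h | ⟨h1, h2⟩
  · rw [c.sh_sq]
    exact one_mem _
  · exact key x y h
  · have : c.sh x * c.sh y = (c.sh x * c.sh (wit x y)) * (c.sh (wit x y) * c.sh y) := by
      rw [mul_assoc, ← mul_assoc (c.sh (wit x y)), c.sh_sq, one_mul]
    rw [this]
    exact mul_mem (key _ _ h1) (key _ _ h2)

/-- even words lie in the commutator subgroup of the preimage, odd words next to it -/
theorem Cov.word_mem_B (hidx : (commutator Fi24).index = 2)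
    (hperf : ⁅commutator Fi24, commutator Fi24⁆ = commutator Fi24) (w : FreeGroup Fi24.Gen) :
    (sgnW w = 1 → c.Psi' w ∈ c.B) ∧ (sgnW w = -1 → c.Psi' w * c.sh Fi24.Gen.l ∈ c.B) := by
  induction w using FreeGroup.induction_on with
  | C1 =>
    refine ⟨fun _ => by rw [map_one]; exact one_mem _, fun h => ?_⟩
    rw [map_one] at h
    exact absurd h (by decide)
  | of x =>
    refine ⟨fun h => ?_, fun _ => c.pair_mem_B hidx hperf x _⟩
    rw [sgnW_of] at h
    exact absurd h (by decide)
  | inv_of x ih =>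
    refine ⟨fun h => ?_, fun _ => ?_⟩
    · rw [map_inv, sgnW_of] at h
      exact absurd h (by decide)
    · rw [map_inv]
      have : (c.Psi' (FreeGroup.of x))⁻¹ = c.sh x := c.sh_inv x
      rw [this]
      exact c.pair_mem_B hidx hperf x _
  | mul x y ihx ihy =>
    have hconj : ∀ b ∈ c.B, (c.sh Fi24.Gen.l)⁻¹ * b * c.sh Fi24.Gen.l ∈ c.B := by
      intro b hb
      have := c.B_normal.conj_mem b hb (c.sh Fi24.Gen.l)⁻¹
      rwa [inv_inv] at this
    rcases Int.units_eq_one_or (sgnW x) with hx | hx <;>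
      rcases Int.units_eq_one_or (sgnW y) with hy | hy
    · refine ⟨fun _ => ?_, fun h => ?_⟩
      · rw [map_mul]
        exact mul_mem (ihx.1 hx) (ihy.1 hy)
      · rw [map_mul, hx, hy] at h
        exact absurd h (by decide)
    · refine ⟨fun h => ?_, fun _ => ?_⟩
      · rw [map_mul, hx, hy] at h
        exact absurd h (by decide)
      · rw [map_mul, mul_assoc]
        exact mul_mem (ihx.1 hx) (ihy.2 hy)
    · refine ⟨fun h => ?_, fun _ => ?_⟩
      · rw [map_mul, hx, hy] at h
        exact absurd h (by decide)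
      · have : c.Psi' x * c.Psi' y * c.sh Fi24.Gen.l =
            (c.Psi' x * c.sh Fi24.Gen.l) *
              ((c.sh Fi24.Gen.l)⁻¹ * c.Psi' y * c.sh Fi24.Gen.l) := by group
        rw [map_mul, this]
        exact mul_mem (ihx.2 hx) (hconj _ (ihy.1 hy))
    · refine ⟨fun _ => ?_, fun h => ?_⟩
      · have : c.Psi' x * c.Psi' y =
            (c.Psi' x * c.sh Fi24.Gen.l) *
              ((c.sh Fi24.Gen.l)⁻¹ * (c.Psi' y * c.sh Fi24.Gen.l) * c.sh Fi24.Gen.l) *
              ((c.sh Fi24.Gen.l)⁻¹ * (c.sh Fi24.Gen.l)⁻¹) := by group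
        rw [map_mul, this]
        refine mul_mem (mul_mem (ihx.2 hx) (hconj _ (ihy.2 hy))) ?_
        rw [c.sh_inv, c.sh_sq]
        exact one_mem _
      · rw [map_mul, hx, hy] at h
        exact absurd h (by decide)

theorem Cov.kap_mem_B (hidx : (commutator Fi24).index = 2)
    (hperf : ⁅commutator Fi24, commutator Fi24⁆ = commutator Fi24) : c.kap ∈ c.B :=
  (c.word_mem_B hidx hperf zword).1 (sgnW_rel _ zword_mem)

end comm

/-! ### the stem extension -/

section stem

variable {n : ℕ} (c : Cov n)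

/-- the extension -/
def Cov.sig : ↥c.Gam →* ↥(commutator Fi24) :=
  (c.pi2.comp c.Gam.subtype).codRestrict (commutator Fi24) fun g => g.2

theorem Cov.sig_val (g : ↥c.Gam) : ((c.sig g : ↥(commutator Fi24)) : Fi24) = c.pi2 g.1 := rfl

theorem Cov.sig_surjective : Function.Surjective c.sig := by
  intro y
  obtain ⟨g, hg⟩ := c.pi2_surjective y.1
  have hg' : g ∈ c.Gam := by
    rw [Cov.Gam, Subgroup.mem_comap, hg]
    exact y.2
  exact ⟨⟨g, hg'⟩, Subtype.ext hg⟩

theorem Cov.mem_ker_sig (g : ↥c.Gam) (hg : g ∈ c.sig.ker) : ∃ k : ℤ, g.1 = c.kap ^ k := by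
  rw [MonoidHom.mem_ker] at hg
  have h1 : c.pi2 g.1 = 1 := by
    rw [← c.sig_val, hg]
    rfl
  obtain ⟨k, hk⟩ := Subgroup.mem_zpowers_iff.1 (c.ker_pi2 _ h1)
  exact ⟨k, hk.symm⟩

/-- the generator of the kernel, in the extension -/
def Cov.kapG : ↥c.Gam := ⟨c.kap, c.kap_mem⟩

theorem Cov.ker_sig_eq : c.sig.ker = Subgroup.zpowers c.kapG := by
  apply le_antisymm
  · intro g hg
    obtain ⟨k, hk⟩ := c.mem_ker_sig g hg
    refine Subgroup.mem_zpowers_iff.2 ⟨k, ?_⟩
    apply Subtype.ext
    rw [hk]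
    rfl
  · rw [Subgroup.zpowers_le, MonoidHom.mem_ker]
    apply Subtype.ext
    rw [c.sig_val]
    exact c.pi2_kap

theorem Cov.orderOf_kapG : orderOf c.kapG = 3 := by
  have h3 : Nat.Prime 3 := by norm_num
  have hf : Fact (Nat.Prime 3) := ⟨h3⟩
  apply orderOf_eq_prime
  · apply Subtype.ext
    exact c.kap_pow_three
  · intro h
    exact c.kap_ne_one (congrArg Subtype.val h)

/-- **the stem extension of `Fi24'` with kernel of order three** -/
theorem exists_stem {m : ℕ} (c : Cov m) (hfin : Finite Fi24) (hidx : (commutator Fi24).index = 2)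
    (hperf : ⁅commutator Fi24, commutator Fi24⁆ = commutator Fi24) :
    ∃ (Γ : Type) (_ : Group Γ) (_ : Finite Γ) (σ : Γ →* Fi24'),
      IsStemExtension σ ∧ Nonempty (σ.ker ≃* Multiplicative (ZMod 3)) := by
  refine ⟨↥c.Gam, inferInstance, inferInstance, c.sig, ⟨c.sig_surjective, ?_, ?_⟩, ?_⟩
  · intro g hg
    obtain ⟨k, hk⟩ := c.mem_ker_sig g hg
    rw [Subgroup.mem_center_iff]
    intro h
    apply Subtype.ext
    show h.1 * g.1 = g.1 * h.1
    rw [hk]
    exact (Commute.zpow_right (show Commute h.1 c.kap from c.kap_comm h.1 h.2) k).eq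
  · intro g hg
    obtain ⟨k, hk⟩ := c.mem_ker_sig g hg
    have h1 : g.1 ∈ c.B := by
      rw [hk]
      exact zpow_mem (c.kap_mem_B hidx hperf) k
    rw [Cov.B, ← Subgroup.map_subtype_commutator] at h1
    obtain ⟨y, hy, hyg⟩ := Subgroup.mem_map.1 h1
    have : y = g := Subtype.ext hyg
    rw [← this]
    exact hy
  · rw [c.ker_sig_eq]
    have h1 : Nat.card (Subgroup.zpowers c.kapG) = 3 := by
      rw [Nat.card_zpowers, c.orderOf_kapG]
    have hc : IsCyclic (Subgroup.zpowers c.kapG) := inferInstance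
    have e := zmodCyclicMulEquiv hc
    rw [h1] at e
    exact ⟨e.symm⟩

end stem

end Cfsg.Agent.Lib.Helper8.Fi24L
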