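import Cfsg.Agent.Lib.Helper8.Fi24L.Abs
import Cfsg.Agent.Lib.Helper7.Fi24LC

/-!
# The threefold cover of the permutation representation of the presented group Fi24 on 306936
rows, from the table and the checks of `Cfsg.Agent.Lib.Helper7.Fi24L`

The packed point `a + 2^20 * j` of the checks is the point `(a, -j)` here: the checks multiply the
letters of a word as permutations are multiplied (the last letter acts first), and with the
fibres numbered backwards the last relator acts as the rotation `tau`.
-/

set_option autoImplicit false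
set_option linter.constructorNameAsVariable false

noncomputable section

namespace Cfsg.Agent.Lib.Helper8.Fi24L

open Cfsg Cfsg.Spor Cfsg.Agent.Lib.Helper7.Fi24L

/-- the number of the rows of the table -/
abbrev NR : ℕ := 306936

/-- the two facts that the checks of the rows show -/
structure Checked : Prop where
  rows : ∀ a, a < 306936 → ∀ p ∈ chkL, runN p.1 p.2.1 a = a + 1048576 * p.2.2
  bd : ∀ a, a < 306936 → ∀ s, s < 12 →
    Nat.land (ent a s) 1048575 < 306936 ∧ Nat.shiftRight (ent a s) 20 < 3

/-! ### the walk as a fold -/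

theorem sN_eq (x : ℕ) (f : ℕ → ℕ) : sN x f = f x := by cases x <;> rfl

theorem runN_succ (W L v : ℕ) : runN W (L + 1) v =
    stepN (Nat.land (Nat.shiftRight W (Nat.mul 4 L)) 15) (runN W L v) :=
  sN_eq _ _

theorem wordOf_succ (W L : ℕ) :
    wordOf W (L + 1) = Nat.land (Nat.shiftRight W (Nat.mul 4 L)) 15 :: wordOf W L := rfl

theorem runN_eq_foldr (W : ℕ) : ∀ (L v : ℕ), runN W L v = (wordOf W L).foldr stepN v
  | 0, _ => rfl
  | L + 1, v => by
    rw [runN_succ, wordOf_succ, List.foldr_cons, runN_eq_foldr W L v]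

theorem length_wordOf (W : ℕ) : ∀ L, (wordOf W L).length = L
  | 0 => rfl
  | L + 1 => by rw [wordOf_succ, List.length_cons, length_wordOf W L]

theorem land_eq_mod (n : ℕ) : Nat.land n 1048575 = n % 1048576 :=
  Nat.and_two_pow_sub_one_eq_mod n 20

theorem shr_eq_div (n : ℕ) : Nat.shiftRight n 20 = n / 1048576 :=
  Nat.shiftRight_eq_div_pow n 20

/-! ### the generators on the points of the cover -/

/-- the row to which a generator moves a row -/
def pF (s : ℕ) (a : Fin NR) : Fin NR :=
  if h : s < 12 ∧ Nat.land (ent a.val s) 1048575 < NR then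
    ⟨Nat.land (ent a.val s) 1048575, h.2⟩ else a

/-- the displacement in the fibre -/
def dF (s : ℕ) (a : Fin NR) : ZMod 3 := ((Nat.shiftRight (ent a.val s) 20 : ℕ) : ZMod 3)

/-- a generator on the points of the cover -/
def fN (s : ℕ) (x : XH NR) : XH NR := (pF s x.1, - dF s x.1 - x.2)

/-- the packed point: the fibre is numbered backwards -/
def enc (x : XH NR) : ℕ := x.1.val + 1048576 * (-x.2).val

theorem enc_base (a : Fin NR) : enc (a, 0) = a.val := by
  unfold enc
  simp

theorem enc_injective : Function.Injective enc := by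
  rintro ⟨a, i⟩ ⟨b, j⟩ h
  have ha : a.val < 306936 := a.isLt
  have hb : b.val < 306936 := b.isLt
  have h' : a.val + 1048576 * (-i).val = b.val + 1048576 * (-j).val := h
  have h1 : a.val = b.val ∧ (-i).val = (-j).val := by omega
  exact Prod.ext (Fin.ext h1.1) (neg_injective (ZMod.val_injective 3 h1.2))

theorem fib_arith : ∀ D < 3, ∀ i : ZMod 3,
    (D + 3 - (-i).val) % 3 = (-(-((D : ℕ) : ZMod 3) - i)).val := by decide

theorem pF_val (H : Checked) {s : ℕ} (hs : s < 12) (a : Fin NR) :
    (pF s a).val = Nat.land (ent a.val s) 1048575 := by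
  unfold pF
  rw [dif_pos ⟨hs, (H.bd a.val a.isLt s hs).1⟩]

theorem step_enc (H : Checked) {s : ℕ} (hs : s < 12) (x : XH NR) :
    stepN s (enc x) = enc (fN s x) := by
  obtain ⟨a, i⟩ := x
  have ha : a.val < 306936 := a.isLt
  have hb := H.bd a.val a.isLt s hs
  have hi : (-i).val < 3 := ZMod.val_lt _
  have e0 : enc (a, i) = a.val + 1048576 * (-i).val := rfl
  have e1 : Nat.land (enc (a, i)) 1048575 = a.val := by
    rw [land_eq_mod, e0]
    omega
  have e2 : Nat.shiftRight (enc (a, i)) 20 = (-i).val := by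
    rw [shr_eq_div, e0]
    omega
  unfold stepN
  rw [sN_eq, e1, e2]
  show Nat.land (ent a.val s) 1048575 +
    1048576 * ((Nat.shiftRight (ent a.val s) 20 + 3 - (-i).val) % 3) = enc (fN s (a, i))
  rw [fib_arith _ hb.2 i, ← pF_val H hs]
  rfl

theorem sq_mem : ∀ s < 12, (17 * s, 2, 0) ∈ chkL := by decide

theorem sq_word : ∀ s < 12, wordOf (17 * s) 2 = [s, s] := by decide

theorem rows_foldr (H : Checked) {a : ℕ} (ha : a < 306936) {W L e : ℕ} (hm : (W, L, e) ∈ chkL) :
    (wordOf W L).foldr stepN a = a + 1048576 * e := by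
  have h := H.rows a ha _ hm
  rwa [runN_eq_foldr] at h

theorem fN_base (H : Checked) {s : ℕ} (hs : s < 12) (a : Fin NR) :
    fN s (fN s (a, 0)) = (a, 0) := by
  apply enc_injective
  rw [← step_enc H hs, ← step_enc H hs, enc_base]
  have h := rows_foldr H a.isLt (sq_mem s hs)
  rw [sq_word s hs] at h
  simpa using h

theorem fN_invol (H : Checked) (s : ℕ) : Function.Involutive (fN s) := by
  rintro ⟨a, i⟩
  by_cases hs : s < 12
  · have h0 : ((pF s (pF s a), - dF s (pF s a) - (- dF s a - 0)) : XH NR) = (a, 0) := fN_base H hs a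
    have h1 : pF s (pF s a) = a := (Prod.ext_iff.1 h0).1
    have h2 : - dF s (pF s a) - (- dF s a - 0) = 0 := (Prod.ext_iff.1 h0).2
    show ((pF s (pF s a), - dF s (pF s a) - (- dF s a - i)) : XH NR) = (a, i)
    exact Prod.ext h1 (by
      show - dF s (pF s a) - (- dF s a - i) = i
      linear_combination h2)
  · have hp : ∀ b, pF s b = b := by
      intro b
      unfold pF
      rw [dif_neg (fun h => hs h.1)]
    show ((pF s (pF s a), - dF s (pF s a) - (- dF s a - i)) : XH NR) = (a, i)
    rw [hp, hp]
    exact Prod.ext rfl (by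
      show - dF s a - (- dF s a - i) = i
      ring)

/-- the permutation of a generator -/
def pN (H : Checked) (s : ℕ) : Equiv.Perm (XH NR) := (fN_invol H s).toPerm

theorem pN_apply (H : Checked) (s : ℕ) (x : XH NR) : pN H s x = fN s x := rfl

theorem pN_mul_self (H : Checked) (s : ℕ) : pN H s * pN H s = 1 := by
  ext x : 1
  rw [Equiv.Perm.mul_apply, pN_apply, pN_apply, fN_invol H s]
  rfl

theorem pN_inv (H : Checked) (s : ℕ) : (pN H s)⁻¹ = pN H s :=
  inv_eq_of_mul_eq_one_left (pN_mul_self H s)

/-- a generator inverts the rotation -/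
theorem pN_tau (H : Checked) (s : ℕ) : pN H s * tau NR = (tau NR)⁻¹ * pN H s := by
  rw [eq_inv_mul_iff_mul_eq]
  ext x : 1
  obtain ⟨a, i⟩ := x
  rw [Equiv.Perm.mul_apply, Equiv.Perm.mul_apply, tau_apply, pN_apply, pN_apply]
  show tau NR (pF s a, - dF s a - (i + 1)) = (pF s a, - dF s a - i)
  rw [tau_apply]
  exact Prod.ext rfl (by
    show - dF s a - (i + 1) + 1 = - dF s a - i
    ring)

/-! ### words -/

theorem foldr_enc (H : Checked) : ∀ (w : List ℕ), (∀ t ∈ w, t < 12) → ∀ x : XH NR,
    w.foldr stepN (enc x) = enc ((w.map (pN H)).prod x)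
  | [], _, _ => rfl
  | t :: w, hw, x => by
    rw [List.foldr_cons, foldr_enc H w (fun y hy => hw y (List.mem_cons_of_mem _ hy)) x,
      step_enc H (hw t (List.mem_cons_self ..)), List.map_cons, List.prod_cons,
      Equiv.Perm.mul_apply, pN_apply]

/-- a word of even length commutes with the rotation -/
theorem prod_tau (H : Checked) : ∀ (w : List ℕ),
    (w.length % 2 = 0 → (w.map (pN H)).prod * tau NR = tau NR * (w.map (pN H)).prod) ∧
    (w.length % 2 = 1 → (w.map (pN H)).prod * tau NR = (tau NR)⁻¹ * (w.map (pN H)).prod)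
  | [] => ⟨fun _ => by simp, fun h => by simp at h⟩
  | t :: w => by
    have ih := prod_tau H w
    have hp := pN_tau H t
    have hp' : pN H t * (tau NR)⁻¹ = tau NR * pN H t := by
      rw [mul_inv_eq_iff_eq_mul, mul_assoc, hp, ← mul_assoc, mul_inv_cancel, one_mul]
    rw [List.map_cons, List.prod_cons]
    constructor
    · intro hl
      have hl' : w.length % 2 = 1 := by
        rw [List.length_cons] at hl
        omega
      rw [mul_assoc, ih.2 hl', ← mul_assoc, hp', mul_assoc]
    · intro hl
      have hl' : w.length % 2 = 0 := by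
        rw [List.length_cons] at hl
        omega
      rw [mul_assoc, ih.1 hl', ← mul_assoc, hp, mul_assoc]

set_option maxRecDepth 100000 in
theorem all_lt : ∀ p ∈ chkL, ∀ t ∈ wordOf p.1 p.2.1, t < 12 := by decide +kernel

set_option maxRecDepth 100000 in
theorem all_even : ∀ p ∈ chkL, p.2.1 % 2 = 0 ∧ p.2.2 < 3 := by decide +kernel

theorem pair_eq_tau (a : Fin NR) (o : ZMod 3) :
    ((a, o) : XH NR) = (tau NR ^ o.val) (a, 0) := by
  rw [tau_pow_apply, zero_add, ZMod.natCast_zmod_val]

/-- **what a checked word does** -/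
theorem word_eq (H : Checked) {W L e : ℕ} (hp : (W, L, e) ∈ chkL) (x : XH NR) :
    ((wordOf W L).map (pN H)).prod x = (x.1, x.2 - ((e : ℕ) : ZMod 3)) := by
  obtain ⟨a, i⟩ := x
  have hlt : ∀ t ∈ wordOf W L, t < 12 := all_lt _ hp
  have hev : L % 2 = 0 ∧ e < 3 := all_even _ hp
  have hc : ((wordOf W L).map (pN H)).prod * tau NR = tau NR * ((wordOf W L).map (pN H)).prod :=
    (prod_tau H (wordOf W L)).1 (by rw [length_wordOf]; exact hev.1)
  have hbase : ((wordOf W L).map (pN H)).prod (a, 0) = (a, -((e : ℕ) : ZMod 3)) := by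
    apply enc_injective
    rw [← foldr_enc H _ hlt, enc_base, rows_foldr H a.isLt hp]
    show a.val + 1048576 * e = a.val + 1048576 * (- -((e : ℕ) : ZMod 3)).val
    rw [neg_neg, ZMod.val_natCast, Nat.mod_eq_of_lt hev.2]
  show ((wordOf W L).map (pN H)).prod (a, i) = (a, i - ((e : ℕ) : ZMod 3))
  rw [pair_eq_tau a i, ← Equiv.Perm.mul_apply,
    (Commute.pow_right (show Commute _ (tau NR) from hc) _).eq, Equiv.Perm.mul_apply, hbase,
    tau_pow_apply, ZMod.natCast_zmod_val]
  exact Prod.ext rfl (by
    show -((e : ℕ) : ZMod 3) + i = i - ((e : ℕ) : ZMod 3)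
    ring)

theorem word_one (H : Checked) {W L : ℕ} (hp : (W, L, 0) ∈ chkL) :
    ((wordOf W L).map (pN H)).prod = 1 := by
  ext x : 1
  rw [word_eq H hp x]
  simp

theorem prod_flatten_replicate (H : Checked) (u : List ℕ) : ∀ m : ℕ,
    (((List.replicate m u).flatten).map (pN H)).prod = ((u.map (pN H)).prod) ^ m
  | 0 => rfl
  | m + 1 => by
    rw [List.replicate_succ, List.flatten_cons, List.map_append, List.prod_append,
      prod_flatten_replicate H u m, pow_succ']

/-! ### the generators of the presented group -/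

/-- the numbers of the generators in the table -/
def code : Fi24.Gen → ℕ
  | .l => 0 | .k => 1 | .a => 2 | .b => 3 | .c => 4 | .d => 5
  | .e => 6 | .f => 7 | .g => 8 | .j => 9 | .h => 10 | .i => 11

/-- the permutations of the generators of the presented group -/
def phE (H : Checked) (x : Fi24.Gen) : Equiv.Perm (XH NR) := pN H (code x)

theorem phE_inv (H : Checked) (x : Fi24.Gen) : (phE H x)⁻¹ = phE H x := pN_inv H _

theorem conj_pow_eq_one {G : Type*} [Group G] (a b : G) (m : ℕ) (h : (a * b) ^ m = 1) :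
    (b * a) ^ m = 1 := by
  have e : b * a = b * (a * b) * b⁻¹ := by group
  rw [e, conj_pow, h, mul_one, mul_inv_cancel]

set_option maxRecDepth 100000 in
/-- the entry of the list of the checked words for two generators -/
theorem pair_chk (x y : Fi24.Gen) : x = y ∨
    (∃ p ∈ chkL, p.2.2 = 0 ∧ wordOf p.1 p.2.1 =
      (List.replicate (coxLabel Fi24.edges x y) [code x, code y]).flatten) ∨
    (∃ p ∈ chkL, p.2.2 = 0 ∧ wordOf p.1 p.2.1 =
      (List.replicate (coxLabel Fi24.edges x y) [code y, code x]).flatten) := by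
  cases x <;> cases y <;> decide +kernel

theorem two_prod (H : Checked) (c d : ℕ) : ([c, d].map (pN H)).prod = pN H c * pN H d := by
  simp

theorem phE_pow (H : Checked) (x y : Fi24.Gen) :
    (phE H x * phE H y) ^ coxLabel Fi24.edges x y = 1 := by
  rcases pair_chk x y with rfl | ⟨⟨W, L, e⟩, hp, h0, hw⟩ | ⟨⟨W, L, e⟩, hp, h0, hw⟩
  · have h1 : coxLabel Fi24.edges x x = 1 := by simp [coxLabel]
    rw [h1, pow_one]
    exact pN_mul_self H _
  · have h0' : e = 0 := h0
    subst h0'
    have h := word_one H hp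
    have hw' : wordOf W L =
      (List.replicate (coxLabel Fi24.edges x y) [code x, code y]).flatten := hw
    rw [hw', prod_flatten_replicate, two_prod] at h
    exact h
  · have h0' : e = 0 := h0
    subst h0'
    have h := word_one H hp
    have hw' : wordOf W L =
      (List.replicate (coxLabel Fi24.edges x y) [code y, code x]).flatten := hw
    rw [hw', prod_flatten_replicate, two_prod] at h
    exact conj_pow_eq_one _ _ _ h

theorem phE_cox (H : Checked) (r : FreeGroup Fi24.Gen) (hr : r ∈ coxRelators Fi24.edges) :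
    FreeGroup.lift (phE H) r = 1 := by
  obtain ⟨x, _, y, _, rfl⟩ := hr
  rw [map_pow, map_mul, FreeGroup.lift_apply_of, FreeGroup.lift_apply_of]
  exact phE_pow H x y

/-- the letters of the last relator, before the power -/
def zu : List ℕ := [5, 4, 3, 2, 1, 0, 5, 6, 7, 8, 9, 5, 10, 11]

/-- the letters of the inverse of the power in the first further relator, before the power -/
def eu : List ℕ := [10, 7, 6, 5, 4, 3, 2]

set_option maxRecDepth 100000 in
theorem e7_chk : ∃ p ∈ chkL, p.2.2 = 0 ∧
    wordOf p.1 p.2.1 = 0 :: (List.replicate 9 eu).flatten := by decide +kernel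

set_option maxRecDepth 100000 in
theorem z_chk : ∃ p ∈ chkL, p.2.2 = 2 ∧
    wordOf p.1 p.2.1 = (List.replicate 17 zu).flatten := by decide +kernel

theorem phE_e7 (H : Checked) : FreeGroup.lift (phE H) eword = 1 := by
  obtain ⟨⟨W, L, e⟩, hp, h0, hw⟩ := e7_chk
  have h0' : e = 0 := h0
  subst h0'
  have h := word_one H hp
  have hw' : wordOf W L = 0 :: (List.replicate 9 eu).flatten := hw
  rw [hw', List.map_cons, List.prod_cons, prod_flatten_replicate] at h
  rw [← h]
  simp only [eword, Fi24.l, Fi24.a, Fi24.b, Fi24.c, Fi24.d, Fi24.e, Fi24.f, Fi24.h, map_mul,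
    map_inv, map_pow, FreeGroup.lift_apply_of, ← inv_pow, mul_inv_rev, phE_inv]
  simp only [eu, phE, code, List.map_cons, List.map_nil, List.prod_cons, List.prod_nil, mul_one]

theorem phE_zz (H : Checked) : FreeGroup.lift (phE H) zword = tau NR := by
  obtain ⟨⟨W, L, e⟩, hp, h2, hw⟩ := z_chk
  have h2' : e = 2 := h2
  subst h2'
  have h : ((wordOf W L).map (pN H)).prod = tau NR := by
    ext x : 1
    rw [word_eq H hp x]
    obtain ⟨a, i⟩ := x
    rw [tau_apply]
    exact Prod.ext rfl (by
      show i - ((2 : ℕ) : ZMod 3) = i + 1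
      revert i
      decide)
  have hw' : wordOf W L = (List.replicate 17 zu).flatten := hw
  rw [hw', prod_flatten_replicate] at h
  rw [← h]
  simp only [zword, Fi24.l, Fi24.k, Fi24.a, Fi24.b, Fi24.c, Fi24.d, Fi24.e, Fi24.f, Fi24.g,
    Fi24.j, Fi24.h, Fi24.i, map_mul, map_pow, FreeGroup.lift_apply_of]
  simp only [zu, phE, code, List.map_cons, List.map_nil, List.prod_cons, List.prod_nil, mul_one,
    mul_assoc]

/-- **the threefold cover** -/
def covE (H : Checked) : Cov NR where
  ph := phE H
  pos := by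
    show 0 < 306936
    norm_num
  anti := fun x => pN_tau H (code x)
  cox := phE_cox H
  e7 := phE_e7 H
  zz := phE_zz H

end Cfsg.Agent.Lib.Helper8.Fi24L
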