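import Cfsg.Agent.Lib.Helper8.Fi24L.Cover
import Cfsg.Agent.Lib.Helper7.Fi24LD
import Cfsg.Agent.Lib.Helper6.Fi24Simple

/-!
# A finite stem extension of Fi24' with kernel of order three

The lower bound for the Schur multiplier of Fi24': the threefold cover of `Cover`, with the checks
of the rows of `Cfsg.Agent.Lib.Helper7.Fi24L`, in the abstract statement of `Abs`.
-/

set_option autoImplicit false

namespace Cfsg.Agent.Lib.Helper8.Fi24L

open Cfsg Cfsg.Spor

/-- the commutator subgroup of the presented group Fi24 is perfect -/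
theorem perfect_commutator : ⁅commutator Fi24, commutator Fi24⁆ = commutator Fi24 := by
  have hs : IsSimpleGroup (commutator Fi24) := Cfsg.Agent.Lib.Helper6.Fi24Simple.main.1
  rw [← Subgroup.map_subtype_commutator]
  rcases hs.eq_bot_or_eq_top_of_normal (commutator ↥(commutator Fi24)) inferInstance with h | h
  · exfalso
    have hc : IsMulCommutative ↥(commutator Fi24) := (commutator_eq_bot_iff _).1 h
    let _ : CommGroup ↥(commutator Fi24) :=
      { (inferInstance : Group ↥(commutator Fi24)) with mul_comm := hc.is_comm.comm }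
    have hp : (Nat.card ↥(commutator Fi24)).Prime := IsSimpleGroup.prime_card
    rw [Cfsg.Agent.Lib.Helper6.Fi24Simple.main.2] at hp
    revert hp
    norm_num
  · rw [h, ← MonoidHom.range_eq_map, Subgroup.range_subtype]

/-- **a finite stem extension of `Fi24'` whose kernel is cyclic of order three** -/
theorem exists_stem_three :
    ∃ (Γ : Type) (_ : Group Γ) (_ : Finite Γ) (σ : Γ →* Fi24'),
      IsStemExtension σ ∧ Nonempty (σ.ker ≃* Multiplicative (ZMod 3)) :=
  exists_stem (covE ⟨Cfsg.Agent.Lib.Helper7.Fi24L.chk_all, Cfsg.Agent.Lib.Helper7.Fi24L.bd_all⟩)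
    Cfsg.Agent.Lib.Helper6.Fi24H.finiteFi24
    Cfsg.Agent.Lib.Helper6.Fi24Simple.index_commutator perfect_commutator

end Cfsg.Agent.Lib.Helper8.Fi24L
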